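-- helper38: S2412 (PSU_n(q) is generated by two elements): definitions of the Steinberg pair design in helper84's
-- hyperbolic model `SUm (m + 2) r bar` (`n = 2 (m + 2) + r`), the membership predicate `HasM`, root group predicates
-- and the general lemmas on Eichler transformations used by all the pieces.
import Mathlib
import Cfsg.Agent.Helper84.PSUEich

set_option autoImplicit false
set_option linter.unusedSectionVars false

namespace Cfsg.Agent.Helper38.SU2G

open Matrix Cfsg.Agent.Helper84.PSU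

variable {K : Type*} [Field K] {m r : ℕ}

local notation "Vec" => (I (m + 2) r → K)
local notation "Mat" => Matrix (I (m + 2) r) (I (m + 2) r) K

/-- the index `0` of `e_0`, `f_0` -/
def i0 : Fin (m + 2) := ⟨0, by omega⟩
/-- the index `1` of `e_1`, `f_1` -/
def i1 : Fin (m + 2) := ⟨1, by omega⟩
/-- the last index `m + 1` -/
def il : Fin (m + 2) := ⟨m + 1, by omega⟩

/-- the basis vectors `e_l` -/
def vE (l : Fin (m + 2)) : Vec := bv (eI l)
/-- the basis vectors `f_l` -/
def vF (l : Fin (m + 2)) : Vec := bv (fI l)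
/-- the anisotropic basis vectors `w_a` -/
def vW (a : Fin r) : Vec := bv (wI a)

/-- the vectors of `V' = ⟨e_0, f_0⟩^⊥` -/
def InV' (x : Vec) : Prop := x (eI i0) = 0 ∧ x (fI i0) = 0

variable (bar : K →+* K)

set_option quotPrecheck false in
local notation "SUk" => ↥(SUm (m + 2) r bar)

/-- the subgroup `H` contains an element with matrix `M` -/
def HasM (H : Subgroup SUk) (M : Mat) : Prop := ∃ x ∈ H, mt bar x = M

theorem HasM.mul {H : Subgroup SUk} {M N : Mat} (hM : HasM bar H M) (hN : HasM bar H N) :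
    HasM bar H (M * N) := by
  obtain ⟨x, hx, rfl⟩ := hM
  obtain ⟨y, hy, rfl⟩ := hN
  exact ⟨x * y, mul_mem hx hy, mt_mul bar x y⟩

theorem HasM.one (H : Subgroup SUk) : HasM bar H (1 : Mat) := ⟨1, one_mem H, mt_one bar⟩

theorem HasM.inv {H : Subgroup SUk} {M N : Mat} (hM : HasM bar H M) (hMN : M * N = 1) : HasM bar H N := by
  obtain ⟨x, hx, rfl⟩ := hM
  refine ⟨x⁻¹, inv_mem hx, ?_⟩
  have h1 : mt bar x⁻¹ * mt bar x = 1 := mt_inv_mul bar x
  calc mt bar x⁻¹ = mt bar x⁻¹ * (mt bar x * N) := by rw [hMN, Matrix.mul_one]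
    _ = N := by rw [← Matrix.mul_assoc, h1, Matrix.one_mul]

theorem HasM.pow {H : Subgroup SUk} {M : Mat} (hM : HasM bar H M) (n : ℕ) : HasM bar H (M ^ n) := by
  obtain ⟨x, hx, rfl⟩ := hM
  exact ⟨x ^ n, pow_mem hx n, mt_pow bar x n⟩

theorem HasM.of_eq {H : Subgroup SUk} {M N : Mat} (hM : HasM bar H M) (h : M = N) : HasM bar H N := h ▸ hM

theorem hasM_mt {H : Subgroup SUk} {x : SUk} (hx : x ∈ H) : HasM bar H (mt bar x) := ⟨x, hx, rfl⟩

theorem HasM.mono {H H' : Subgroup SUk} (hHH' : H ≤ H') {M : Mat} (hM : HasM bar H M) : HasM bar H' M := by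
  obtain ⟨x, hx, rfl⟩ := hM
  exact ⟨x, hHH' hx, rfl⟩

/-- conjugation inside `H` -/
theorem hasM_conj_eichM (H : Subgroup SUk) {M : Mat} (hM : HasM bar H M) {u y : Vec} {c : K}
    (hE : HasM bar H (eichM bar u y c)) : HasM bar H (eichM bar (M *ᵥ u) (M *ᵥ y) c) := by
  obtain ⟨a, ha, rfl⟩ := hM
  obtain ⟨b, hb', hbm⟩ := hE
  refine ⟨a * b * a⁻¹, mul_mem (mul_mem ha hb') (inv_mem ha), ?_⟩
  rw [mt_mul, mt_mul, hbm]
  exact conj_eichM bar (isU_mt bar a) (mt_mul_inv bar a) u y c

/-- `E(u, y, 0) = E(y, -u, 0)` -/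
theorem eichM_swap (u y : Vec) : eichM bar u y 0 = eichM bar y (-u) 0 := by
  apply mat_ext_mulVec
  intro x
  rw [eichM_mulVec, eichM_mulVec, hf_neg_right]
  module

section hb

variable (hb : ∀ x, bar (bar x) = x)
include hb

/-- rescaling the first vector: `E(α u, y, c) = E(u, bar α y, α bar α c)` -/
theorem eichM_smul_left (α : K) (u y : Vec) (c : K) :
    eichM bar (α • u) y c = eichM bar u (bar α • y) (α * bar α * c) := by
  apply mat_ext_mulVec
  intro x
  rw [eichM_mulVec, eichM_mulVec, hf_smul_right, hf_smul_right, hb]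
  module

/-- products inside `H` -/
theorem HasM.eich_mul {H : Subgroup SUk} {u y y' : Vec} {c c' : K} (huu : hf bar u u = 0)
    (hyu : hf bar y u = 0) (hy'u : hf bar y' u = 0) (h1 : HasM bar H (eichM bar u y c))
    (h2 : HasM bar H (eichM bar u y' c')) : HasM bar H (eichM bar u (y + y') (c + c' - hf bar y' y)) :=
  (h1.mul bar h2).of_eq bar (eichM_mul bar hb c c' huu hyu hy'u)

/-- the inverse of an Eichler transformation -/
theorem eichM_mul_neg {u y : Vec} {c : K} (huu : hf bar u u = 0) (hyu : hf bar y u = 0)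
    (hc : c + bar c + hf bar y y = 0) : eichM bar u y c * eichM bar u (-y) (bar c) = 1 := by
  have hnyu : hf bar (-y) u = 0 := by rw [hf_neg_left, hyu, neg_zero]
  rw [eichM_mul bar hb _ _ huu hyu hnyu, hf_neg_left, sub_neg_eq_add, hc, add_neg_cancel, eichM_zero_zero]

/-- inverses inside `H` -/
theorem HasM.eich_inv {H : Subgroup SUk} {u y : Vec} {c : K} (huu : hf bar u u = 0) (hyu : hf bar y u = 0)
    (hc : c + bar c + hf bar y y = 0) (h1 : HasM bar H (eichM bar u y c)) :
    HasM bar H (eichM bar u (-y) (bar c)) :=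
  h1.inv bar (eichM_mul_neg bar hb huu hyu hc)

end hb

/-- the root group `{E(u, t y, 0)}` is contained in `H` -/
def RGz (H : Subgroup SUk) (u y : Vec) : Prop := ∀ t : K, HasM bar H (eichM bar u (t • y) 0)

/-- the root group `{E(u, t w_a, c) : c + bar c + t bar t = 0}` is contained in `H` -/
def RGw (H : Subgroup SUk) (u : Vec) (a : Fin r) : Prop :=
  ∀ t c : K, c + bar c + t * bar t = 0 → HasM bar H (eichM bar u (t • vW a) c)

section transport

variable (hb : ∀ x, bar (bar x) = x)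
include hb

/-- transport of a root group `{E(u, t y, 0)}` along an element of `H` acting monomially on `u`, `y` -/
theorem RGz.transport {H : Subgroup SUk} {u y u' y' : Vec} {M : Mat} {α β : K} (h : RGz bar H u y)
    (hM : HasM bar H M) (hu : M *ᵥ u = α • u') (hy : M *ᵥ y = β • y') (hα : α ≠ 0) (hβ : β ≠ 0) :
    RGz bar H u' y' := by
  intro t
  have hbα : bar α ≠ 0 := fun h0 => hα (by rw [← hb α, h0, map_zero])
  have h1 := hasM_conj_eichM bar H hM (h (t / (bar α * β)))
  refine h1.of_eq bar ?_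
  rw [hu, Matrix.mulVec_smul, hy, eichM_smul_left bar hb, smul_smul, smul_smul, mul_zero]
  congr 2
  field_simp

/-- transport of a root group `{E(u, t w_a, c)}` along an element of `H` fixing `w_a` -/
theorem RGw.transport {H : Subgroup SUk} {u u' : Vec} {a : Fin r} {M : Mat} {α : K} (h : RGw bar H u a)
    (hM : HasM bar H M) (hu : M *ᵥ u = α • u') (hw : M *ᵥ (vW a : Vec) = vW a) (hα : α ≠ 0) :
    RGw bar H u' a := by
  intro t c hc
  have hbα : bar α ≠ 0 := fun h0 => hα (by rw [← hb α, h0, map_zero])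
  have hv : c / (α * bar α) + bar (c / (α * bar α)) + t / bar α * bar (t / bar α) = 0 := by
    rw [map_div₀, map_div₀, map_mul, hb]
    have : c / (α * bar α) + bar c / (bar α * α) + t / bar α * (bar t / α) =
        (c + bar c + t * bar t) / (α * bar α) := by
      field_simp
    rw [this, hc, zero_div]
  have h1 := hasM_conj_eichM bar H hM (h (t / bar α) (c / (α * bar α)) hv)
  refine h1.of_eq bar ?_
  rw [hu, Matrix.mulVec_smul, hw, eichM_smul_left bar hb, smul_smul]
  congr 2
  · field_simp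
  · field_simp

end transport

/-- the Coxeter element: `e_i ↦ e_{i+1}`, `e_last ↦ μ f_0`, `f_i ↦ f_{i+1}`, `f_last ↦ ν e_0`, `w_a ↦ w_a` -/
structure IsCox (n : SUk) (μ ν : K) : Prop where
  hμ : μ ≠ 0
  hν : ν ≠ 0
  e_succ : ∀ (i : Fin (m + 2)) (h : i.val + 1 < m + 2), av bar n (vE i) = vE ⟨i.val + 1, h⟩
  e_last : av bar n (vE il) = μ • vF i0
  f_succ : ∀ (i : Fin (m + 2)) (h : i.val + 1 < m + 2), av bar n (vF i) = vF ⟨i.val + 1, h⟩
  f_last : av bar n (vF il) = ν • vE i0
  w_fix : ∀ a : Fin r, av bar n (vW a) = vW a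

/-- the torus element `diag(κ, κ⁻¹, 1, ..., 1)` of the Levi factor -/
structure IsTor (h : SUk) (κ : K) : Prop where
  e0 : av bar h (vE i0) = κ • vE i0
  e1 : av bar h (vE i1) = κ⁻¹ • vE i1
  f0 : av bar h (vF i0) = (bar κ)⁻¹ • vF i0
  f1 : av bar h (vF i1) = bar κ • vF i1
  e_fix : ∀ i : Fin (m + 2), i ≠ i0 → i ≠ i1 → av bar h (vE i) = vE i
  f_fix : ∀ i : Fin (m + 2), i ≠ i0 → i ≠ i1 → av bar h (vF i) = vF i
  w_fix : ∀ a : Fin r, av bar h (vW a) = vW a

end Cfsg.Agent.Helper38.SU2G
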