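-- helper38: S2412 (PSU_n(q), n ≥ 3, (n,q) ≠ (3,2), is generated by two elements): the assembly of the Steinberg pair
-- design in helper84's hyperbolic model from the farmed pieces (farm #11620): (EXN) (EXH) (E1) (E2) (GENK) (O1) (O2)
-- (ORB0) (ORB1) (B0e) (B0f) (B1) (SPAN) (CEN) (TVALL) (TOP) (KAPPA); `n = 3` from S2283.
import Mathlib
import Cfsg.Prelude.Def_Classical
import Cfsg.Agent.Helper38.SU2G.Defs
import Cfsg.Agent.Helper84.RUn.Transfer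
import Cfsg.Agent.Helper45.GUCard
import Cfsg.Agent.S2283
import Cfsg.Agent.Helper12.SU2GORB1
import Cfsg.Agent.Helper22.SU2GSPAN
import Cfsg.Agent.Helper22.SU2GTVALL
import Cfsg.Agent.Helper24.SU2GO2
import Cfsg.Agent.Helper29.SU2GE2
import Cfsg.Agent.Helper29.SU2GGENK
import Cfsg.Agent.Helper31.SU2GB0e
import Cfsg.Agent.Helper31.SU2GTOP
import Cfsg.Agent.Helper49.SU2GEXN
import Cfsg.Agent.Helper65.SU2GB0f
import Cfsg.Agent.Helper67.SU2GO1
import Cfsg.Agent.Helper68.SU2GB1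
import Cfsg.Agent.Helper68.SU2GORB0
import Cfsg.Agent.Helper81.SU2GCEN
import Cfsg.Agent.Helper87.SU2GE1
import Cfsg.Agent.Helper87.SU2GEXH
import Cfsg.Agent.Helper89.SU2GKAPPA

set_option autoImplicit false
set_option linter.unusedSectionVars false

namespace Cfsg.Agent.Helper38.SU2G

open Matrix Cfsg.Agent.Helper84.PSU

variable {K : Type*} [Field K] {m r : ℕ}

local notation "Vec" => (I (m + 2) r → K)
local notation "Mat" => Matrix (I (m + 2) r) (I (m + 2) r) K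

variable (bar : K →+* K) (hb : ∀ x, bar (bar x) = x)

set_option quotPrecheck false in
local notation "SUk" => ↥(SUm (m + 2) r bar)

/-! ### assembly (helper38) -/

theorem hf_vE0_vE0 : hf bar (vE i0 : Vec) (vE i0) = 0 := hf_bv_ee bar _ _

theorem hf_vF0_vF0 : hf bar (vF i0 : Vec) (vF i0) = 0 := hf_bv_ff bar _ _

theorem hf_inV'_vE0 {x : Vec} (hx : InV' x) : hf bar x (vE i0) = 0 := by
  unfold vE
  rw [hf_bv_right]
  exact hx.2

theorem hf_inV'_vF0 {x : Vec} (hx : InV' x) : hf bar x (vF i0) = 0 := by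
  unfold vF
  rw [hf_bv_right]
  exact hx.1

include hb in
theorem top_of_rg [Fintype K] {q : ℕ} (hK : Fintype.card K = q ^ 2) (hq : ∀ x, bar x = x ^ q)
    (htr : ∀ y : K, bar y = y → ∃ t, t + bar t = y) {s₀ : K} (hs₀ : bar s₀ ≠ s₀) (L : Subgroup SUk)
    (h1 : ∀ j : Fin (m + 2), j ≠ i0 → RGz bar L (vE i0) (vF j))
    (h2 : ∀ j : Fin (m + 2), j ≠ i0 → RGz bar L (vE i0) (vE j))
    (h3 : ∀ j : Fin (m + 2), j ≠ i0 → RGz bar L (vF i0) (vE j))
    (h4 : ∀ j : Fin (m + 2), j ≠ i0 → RGz bar L (vF i0) (vF j))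
    (h5 : ∀ (a : Fin r) (t : K), ∃ c : K, c + bar c + t * bar t = 0 ∧
      HasM bar L (eichM bar (vE i0) (t • vW a) c))
    (h6 : ∀ (a : Fin r) (t : K), ∃ c : K, c + bar c + t * bar t = 0 ∧
      HasM bar L (eichM bar (vF i0) (t • vW a) c)) : L = ⊤ := by
  have key : ∀ u : Vec, (∀ j : Fin (m + 2), j ≠ i0 → RGz bar L u (vF j)) →
      (∀ j : Fin (m + 2), j ≠ i0 → RGz bar L u (vE j)) →
      (∀ (a : Fin r) (t : K), ∃ c : K, c + bar c + t * bar t = 0 ∧ HasM bar L (eichM bar u (t • vW a) c)) →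
      ∀ β : I (m + 2) r, β ≠ eI i0 → β ≠ fI i0 → ∀ t : K,
        ∃ c : K, c + bar c + hf bar (t • (bv β : Vec)) (t • bv β) = 0 ∧
          HasM bar L (eichM bar u (t • bv β) c) := by
    intro u hF hE hW β hβe hβf t
    rcases β with i | a | i
    · refine ⟨0, ?_, hE i (fun h => hβe (by rw [h])) t⟩
      rw [hf_smul_left, hf_smul_right, hf_bv_ee, map_zero]
      ring
    · obtain ⟨c, hc, hH⟩ := hW a t
      refine ⟨c, ?_, hH⟩
      rw [hf_smul_left, hf_smul_right, hf_bv_ww, if_pos rfl]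
      linear_combination hc
    · refine ⟨0, ?_, hF i (fun h => hβf (by rw [h])) t⟩
      rw [hf_smul_left, hf_smul_right, hf_bv_ff, map_zero]
      ring
  have he := Cfsg.Agent.Helper81.SU2G.cen_piece bar hb hs₀ L (vE i0) (hf_vE0_vE0 bar) (fun x hx => hf_inV'_vE0 bar hx)
    (Cfsg.Agent.Helper22.SU2G.span_piece bar hb L (vE i0) (hf_vE0_vE0 bar) (fun x hx => hf_inV'_vE0 bar hx) (key _ h1 h2 h5))
  have hf' := Cfsg.Agent.Helper81.SU2G.cen_piece bar hb hs₀ L (vF i0) (hf_vF0_vF0 bar) (fun x hx => hf_inV'_vF0 bar hx)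
    (Cfsg.Agent.Helper22.SU2G.span_piece bar hb L (vF i0) (hf_vF0_vF0 bar) (fun x hx => hf_inV'_vF0 bar hx) (key _ h4 h3 h6))
  exact Cfsg.Agent.Helper31.SU2G.top_piece bar hK hq L (Cfsg.Agent.Helper22.SU2G.tvall_piece bar hb htr L he hf')

theorem i1_ne_i0 : (i1 : Fin (m + 2)) ≠ i0 := by
  intro h
  have := congrArg Fin.val h
  simp [i1, i0] at this

/-- the even dimensional model is generated by two elements -/
theorem model_even [Fintype K] {q : ℕ} (hq2 : 2 ≤ q) (hK : Fintype.card K = q ^ 2) (hq : ∀ x, bar x = x ^ q)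
    (m : ℕ) : ∃ a b : ↥(SUm (m + 2) 0 bar), Subgroup.closure ({a, b} : Set ↥(SUm (m + 2) 0 bar)) = ⊤ := by
  obtain ⟨hb, htr, -, s₀, hs₀⟩ := Cfsg.Agent.Helper84.RUn.bar_facts hK bar hq
  obtain ⟨κ, hκ0, hκ1, hκ2, hκb, hgen, hgenb⟩ := Cfsg.Agent.Helper89.SU2G.exists_kappa bar hq2 hK hq
  obtain ⟨n, μ, ν, hn⟩ := Cfsg.Agent.Helper49.SU2G.exists_cox (m := m) (r := 0) bar hb hs₀
  obtain ⟨h, hh⟩ := Cfsg.Agent.Helper87.SU2G.exists_tor (m := m) (r := 0) bar hb κ hκ0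
  have hx1 : hf bar (vE i0 : I (m + 2) 0 → K) (vE i0) = 0 := hf_bv_ee bar _ _
  have hx2 : hf bar (vF i1 : I (m + 2) 0 → K) (vE i0) = 0 := by
    unfold vF vE
    rw [hf_bv_fe]
    exact if_neg i1_ne_i0
  have hx3 : (0 : K) + bar 0 + hf bar (vF i1 : I (m + 2) 0 → K) (vF i1) = 0 := by
    unfold vF
    rw [hf_bv_ff, map_zero]
    ring
  obtain ⟨x, hxdef⟩ : ∃ x : ↥(SUm (m + 2) 0 bar), x = eich bar hb (vE i0) (vF i1) 0 hx1 hx2 hx3 := ⟨_, rfl⟩
  have hxm : mt bar x = eichM bar (vE i0) (vF i1) 0 := by rw [hxdef, mt_eich]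
  refine ⟨h, x * n, ?_⟩
  obtain ⟨L, hL⟩ : ∃ L : Subgroup ↥(SUm (m + 2) 0 bar), L = Subgroup.closure {h, x * n} := ⟨_, rfl⟩
  rw [← hL]
  have hhL : h ∈ L := by
    rw [hL]
    exact Subgroup.subset_closure (by simp)
  have hbL : x * n ∈ L := by
    rw [hL]
    exact Subgroup.subset_closure (by simp)
  obtain ⟨c₂, hc₂, hE1⟩ := Cfsg.Agent.Helper87.SU2G.e1_piece bar hb hn hh hκ0 hκ2 hκb hxm L hhL hbL
  have hR : RGz bar L (vE i0) (vF i1) :=
    Cfsg.Agent.Helper29.SU2G.e2_piece bar hb hh hκ0 (fun A hA hc => Cfsg.Agent.Helper29.SU2G.genk_piece hq2 hK (bar κ) hgenb A hA hc) L hhL hc₂ hE1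
  have hxL : x ∈ L := by
    obtain ⟨x', hx'L, hx'⟩ := hR 1
    rw [one_smul] at hx'
    have : x' = x := mt_injective bar (by rw [hx', hxm])
    rwa [← this]
  have hnL : n ∈ L := by
    have := mul_mem (inv_mem hxL) hbL
    rwa [inv_mul_cancel_left] at this
  obtain ⟨o1, o2, o3, o4⟩ := Cfsg.Agent.Helper68.SU2G.orb0_piece bar hb hn L hnL hR
  obtain ⟨b1, b2⟩ := Cfsg.Agent.Helper31.SU2G.b0e_piece bar hb L o1 o2
  obtain ⟨b3, b4⟩ := Cfsg.Agent.Helper65.SU2G.b0f_piece bar hb L o3 o4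
  exact top_of_rg bar hb hK hq htr hs₀ L b1 b2 b3 b4 (fun a => a.elim0) (fun a => a.elim0)

/-- the odd dimensional model is generated by two elements -/
theorem model_odd [Fintype K] {q : ℕ} (hq2 : 2 ≤ q) (hK : Fintype.card K = q ^ 2) (hq : ∀ x, bar x = x ^ q)
    (m : ℕ) : ∃ a b : ↥(SUm (m + 2) 1 bar), Subgroup.closure ({a, b} : Set ↥(SUm (m + 2) 1 bar)) = ⊤ := by
  obtain ⟨hb, htr, -, s₀, hs₀⟩ := Cfsg.Agent.Helper84.RUn.bar_facts hK bar hq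
  obtain ⟨κ, hκ0, hκ1, hκ2, hκb, hgen, hgenb⟩ := Cfsg.Agent.Helper89.SU2G.exists_kappa bar hq2 hK hq
  obtain ⟨n, μ, ν, hn⟩ := Cfsg.Agent.Helper49.SU2G.exists_cox (m := m) (r := 1) bar hb hs₀
  obtain ⟨h, hh⟩ := Cfsg.Agent.Helper87.SU2G.exists_tor (m := m) (r := 1) bar hb κ hκ0
  obtain ⟨c₀, hc₀'⟩ := htr (-1) (by rw [map_neg, map_one])
  have hc₀ : c₀ + bar c₀ + 1 = 0 := by rw [hc₀']; ring
  have hx1 : hf bar (vE i1 : I (m + 2) 1 → K) (vE i1) = 0 := hf_bv_ee bar _ _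
  have hx2 : hf bar (vW 0 : I (m + 2) 1 → K) (vE i1) = 0 := hf_bv_we bar _ _
  have hx3 : c₀ + bar c₀ + hf bar (vW 0 : I (m + 2) 1 → K) (vW 0) = 0 := by
    unfold vW
    rw [hf_bv_ww, if_pos rfl]
    exact hc₀
  obtain ⟨x, hxdef⟩ : ∃ x : ↥(SUm (m + 2) 1 bar), x = eich bar hb (vE i1) (vW 0) c₀ hx1 hx2 hx3 := ⟨_, rfl⟩
  have hxm : mt bar x = eichM bar (vE i1) (vW 0) c₀ := by rw [hxdef, mt_eich]
  refine ⟨h, x * n, ?_⟩
  obtain ⟨L, hL⟩ : ∃ L : Subgroup ↥(SUm (m + 2) 1 bar), L = Subgroup.closure {h, x * n} := ⟨_, rfl⟩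
  rw [← hL]
  have hhL : h ∈ L := by
    rw [hL]
    exact Subgroup.subset_closure (by simp)
  have hbL : x * n ∈ L := by
    rw [hL]
    exact Subgroup.subset_closure (by simp)
  obtain ⟨t₂, c₂, ht₂, hc₂, hO1⟩ := Cfsg.Agent.Helper67.SU2G.o1_piece bar hb 0 hn hh hκ0 hκ1 hc₀ hxm L hhL hbL
  have hR : RGw bar L (vE i1) 0 := Cfsg.Agent.Helper24.SU2G.o2_piece bar hb 0 hh hκ0 hgen hs₀ L hhL ht₂ hc₂ hO1
  have hxL : x ∈ L := by
    obtain ⟨x', hx'L, hx'⟩ := hR 1 c₀ (by rw [map_one, mul_one]; exact hc₀)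
    rw [one_smul] at hx'
    have : x' = x := mt_injective bar (by rw [hx', hxm])
    rwa [← this]
  have hnL : n ∈ L := by
    have := mul_mem (inv_mem hxL) hbL
    rwa [inv_mul_cancel_left] at this
  obtain ⟨o1, o2⟩ := Cfsg.Agent.Helper12.SU2G.orb1_piece bar hb 0 hn L hnL hR
  obtain ⟨b1, b2, b3, b4⟩ := Cfsg.Agent.Helper68.SU2G.b1_piece bar hb 0 hc₀ L o1 o2
  have hval : ∀ t : K, t * bar t * c₀ + bar (t * bar t * c₀) + t * bar t = 0 := by
    intro t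
    rw [map_mul, map_mul, hb]
    linear_combination (t * bar t) * hc₀
  refine top_of_rg bar hb hK hq htr hs₀ L b1 b2 b3 b4 ?_ ?_
  · intro a t
    have ha : a = 0 := Subsingleton.elim a 0
    rw [ha]
    exact ⟨_, hval t, o1 i0 t _ (hval t)⟩
  · intro a t
    have ha : a = 0 := Subsingleton.elim a 0
    rw [ha]
    exact ⟨_, hval t, o2 i0 t _ (hval t)⟩

/-- `SU_n(q)`, `n ≥ 4`, is generated by two elements -/
theorem su_two_gen_ge_four {F : Type*} [Field F] [Fintype F] {q : ℕ} (hq2 : 2 ≤ q) (hF : Fintype.card F = q ^ 2)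
    (n : ℕ) (hn : 4 ≤ n) :
    ∃ a b : ↥(Cfsg.SU n F q), Subgroup.closure ({a, b} : Set ↥(Cfsg.SU n F q)) = ⊤ := by
  obtain ⟨bar, hq⟩ := Cfsg.Agent.Helper45.GU.exists_bar hF
  obtain ⟨m, r, hr, hnmr⟩ : ∃ m r : ℕ, r < 2 ∧ n = 2 * (m + 2) + r :=
    ⟨(n - 4) / 2, n % 2, Nat.mod_lt _ (by norm_num), by omega⟩
  subst hnmr
  have transfer : ∀ r' : ℕ, (∃ a b : ↥(SUm (m + 2) r' bar),
      Subgroup.closure ({a, b} : Set ↥(SUm (m + 2) r' bar)) = ⊤) →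
      ∃ a b : ↥(Cfsg.SU (2 * (m + 2) + r') F q),
        Subgroup.closure ({a, b} : Set ↥(Cfsg.SU (2 * (m + 2) + r') F q)) = ⊤ := by
    rintro r' ⟨a, b, hab⟩
    obtain ⟨φ, -⟩ := Cfsg.Agent.Helper84.RUn.exists_transfer_n hF bar hq (m + 2) r'
    refine ⟨φ a, φ b, ?_⟩
    have h1 : ({φ a, φ b} : Set ↥(Cfsg.SU (2 * (m + 2) + r') F q)) =
        φ.toMonoidHom '' ({a, b} : Set ↥(SUm (m + 2) r' bar)) := by
      rw [Set.image_pair]
      rfl
    rw [h1, ← MonoidHom.map_closure, hab, ← MonoidHom.range_eq_map]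
    exact MonoidHom.range_eq_top.mpr φ.surjective
  interval_cases r
  · exact transfer 0 (model_even bar hq2 hF hq m)
  · exact transfer 1 (model_odd bar hq2 hF hq m)
/-- `SU_n(q)`, `n ≥ 3`, `(n, q) ≠ (3, 2)`, is generated by two elements -/
theorem su_two_gen {F : Type*} [Field F] [Fintype F] {q : ℕ} (hq : IsPrimePow q) (hF : Fintype.card F = q ^ 2)
    (n : ℕ) (hn : 3 ≤ n) (h32 : n = 3 → q ≠ 2) :
    ∃ a b : ↥(Cfsg.SU n F q), Subgroup.closure ({a, b} : Set ↥(Cfsg.SU n F q)) = ⊤ := by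
  have hq2 : 2 ≤ q := hq.two_le
  rcases Nat.lt_or_ge n 4 with h4 | h4
  · have hn3 : n = 3 := by omega
    subst hn3
    have hq3 : 3 ≤ q := by
      have := h32 rfl
      omega
    obtain ⟨u, g, -, hug⟩ := Cfsg.Agent.S2283.result q hq3 hF
    exact ⟨u, g * u * g⁻¹, hug⟩
  · exact su_two_gen_ge_four hq2 hF n h4

/-- `PSU_n(q)`, `n ≥ 3`, `(n, q) ≠ (3, 2)`, is generated by two elements -/
theorem psu_two_gen {F : Type*} [Field F] [Fintype F] {q : ℕ} (hq : IsPrimePow q) (hF : Fintype.card F = q ^ 2)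
    (n : ℕ) (hn : 3 ≤ n) (h32 : n = 3 → q ≠ 2) :
    ∃ a b : Cfsg.PSU n F q, Subgroup.closure ({a, b} : Set (Cfsg.PSU n F q)) = ⊤ := by
  obtain ⟨a, b, hab⟩ := su_two_gen hq hF n hn h32
  refine ⟨QuotientGroup.mk a, QuotientGroup.mk b, ?_⟩
  have h1 : Subgroup.map (QuotientGroup.mk' (Subgroup.center (Cfsg.SU n F q)))
      (Subgroup.closure {a, b}) = ⊤ := by
    rw [hab, ← MonoidHom.range_eq_map, MonoidHom.range_eq_top]
    exact QuotientGroup.mk'_surjective _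
  rw [MonoidHom.map_closure] at h1
  rw [← h1]
  congr 1
  ext x
  simp [Set.image_pair]

end Cfsg.Agent.Helper38.SU2G
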